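import Mathlib

/-! The norm polynomial of `b ∈ A ⊗ R` for a finite group acting on `R` with invariants `R₀`. -/

set_option autoImplicit false
set_option backward.isDefEq.respectTransparency false
set_option backward.isDefEq.respectTransparency.types false

universe u

open TensorProduct Polynomial

namespace H1GalNorm

variable {R₀ R G : Type u} [CommRing R₀] [CommRing R] [Algebra R₀ R] [Group G] [Fintype G]
  [MulSemiringAction G R] [SMulCommClass G R₀ R]

variable (G) in
/-- The generic norm. -/
noncomputable def gen {ι : Type u} [Fintype ι] (r : ι → R) : (MvPolynomial ι R)[X] :=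
  ∏ σ : G, (X - C (∑ i, MvPolynomial.C (σ • r i) * MvPolynomial.X i))

theorem exists_lift (hinj : Function.Injective (algebraMap R₀ R))
    (hfix : ∀ x : R, (∀ g : G, g • x = x) → x ∈ Set.range (algebraMap R₀ R))
    {ι : Type u} [Fintype ι] (r : ι → R) :
    ∃ P : (MvPolynomial ι R₀)[X], P.Monic ∧ P.map (MvPolynomial.map (algebraMap R₀ R)) = gen G r := by
  classical
  have hmonic : (gen G r).Monic := monic_prod_of_monic _ _ fun σ _ => monic_X_sub_C _
  have hl : gen G r ∈ Polynomial.lifts (MvPolynomial.map (σ := ι) (algebraMap R₀ R)) := by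
    rw [Polynomial.lifts_iff_coeff_lifts]
    intro n
    refine MvPolynomial.mem_range_map_iff_coeffs_subset.2 ?_
    intro c hc
    obtain ⟨m, -, rfl⟩ := MvPolynomial.mem_coeffs_iff.1 hc
    refine hfix _ fun τ => ?_
    let φ : MvPolynomial ι R →+* MvPolynomial ι R := MvPolynomial.map (MulSemiringAction.toRingHom G R τ)
    have hτ : (gen G r).map φ = gen G r := by
      rw [gen, Polynomial.map_prod]
      refine Fintype.prod_equiv (Equiv.mulLeft τ) _ _ fun σ => ?_
      simp [φ, Polynomial.map_sub, Polynomial.map_sum, map_sum, mul_smul]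
    have h := congrArg (fun p => MvPolynomial.coeff m (p.coeff n)) hτ
    simp only [Polynomial.coeff_map, φ, MvPolynomial.coeff_map] at h
    exact h
  rcases subsingleton_or_nontrivial R with h | h
  · haveI : Subsingleton R₀ := hinj.subsingleton
    exact ⟨1, monic_one, Subsingleton.elim _ _⟩
  obtain ⟨P, hP, -, hPm⟩ := Polynomial.lifts_and_degree_eq_and_monic hl hmonic
  exact ⟨P, hPm, hP⟩

variable (hinj : Function.Injective (algebraMap R₀ R))
  (hfix : ∀ x : R, (∀ g : G, g • x = x) → x ∈ Set.range (algebraMap R₀ R))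
  {A : Type u} [CommRing A] [Algebra R₀ A]

/-- The norm polynomial of the representative `∑ v i ⊗ r i`. -/
noncomputable def norm {ι : Type u} [Fintype ι] (r : ι → R) (v : ι → A) : A[X] :=
  (exists_lift hinj hfix r).choose.map (MvPolynomial.eval₂Hom (algebraMap R₀ A) v)

theorem monic_norm {ι : Type u} [Fintype ι] (r : ι → R) (v : ι → A) : (norm hinj hfix r v).Monic :=
  (exists_lift hinj hfix r).choose_spec.1.map _

theorem map_norm {ι : Type u} [Fintype ι] (r : ι → R) (v : ι → A) :
    (norm hinj hfix r v).map (algebraMap A (A ⊗[R₀] R)) =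
      ∏ σ : G, (X - C (∑ i, v i ⊗ₜ[R₀] (σ • r i))) := by
  let f : MvPolynomial ι R →+* A ⊗[R₀] R :=
    MvPolynomial.eval₂Hom (Algebra.TensorProduct.includeRight : R →ₐ[R₀] A ⊗[R₀] R).toRingHom fun i => algebraMap A _ (v i)
  have h : f.comp (MvPolynomial.map (algebraMap R₀ R)) =
      (algebraMap A (A ⊗[R₀] R)).comp (MvPolynomial.eval₂Hom (algebraMap R₀ A) v) := by
    refine MvPolynomial.ringHom_ext (fun c => ?_) fun i => ?_
    · simp only [RingHom.comp_apply, f, MvPolynomial.map_C, MvPolynomial.eval₂Hom_C]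
      rw [← IsScalarTower.algebraMap_apply R₀ A (A ⊗[R₀] R)]
      exact (Algebra.TensorProduct.includeRight : R →ₐ[R₀] A ⊗[R₀] R).commutes c
    · simp [f]
  rw [norm, Polynomial.map_map, ← h, ← Polynomial.map_map, (exists_lift hinj hfix r).choose_spec.2, gen,
    Polynomial.map_prod]
  refine Finset.prod_congr rfl fun σ _ => ?_
  simp [f, map_sum, Polynomial.map_sum, Algebra.TensorProduct.algebraMap_apply, ← map_mul, Algebra.TensorProduct.tmul_mul_tmul]

theorem norm_congr {ι κ : Type u} [Fintype ι] [Fintype κ] (r : ι → R) (M : κ → ι → R₀) (w : κ → A) :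
    norm hinj hfix r (fun i => ∑ j, algebraMap R₀ A (M j i) * w j) =
      norm hinj hfix (fun j => ∑ i, M j i • r i) w := by
  let s : MvPolynomial ι R₀ →+* MvPolynomial κ R₀ :=
    MvPolynomial.eval₂Hom MvPolynomial.C fun i => ∑ j, MvPolynomial.C (M j i) * MvPolynomial.X j
  let s' : MvPolynomial ι R →+* MvPolynomial κ R :=
    MvPolynomial.eval₂Hom MvPolynomial.C fun i => ∑ j, MvPolynomial.C (algebraMap R₀ R (M j i)) * MvPolynomial.X j
  have hs : s'.comp (MvPolynomial.map (algebraMap R₀ R)) = (MvPolynomial.map (algebraMap R₀ R)).comp s :=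
    MvPolynomial.ringHom_ext (fun c => by simp [s, s']) fun i => by simp [s, s', map_sum]
  have hP : (exists_lift hinj hfix r).choose.map s = (exists_lift hinj hfix fun j => ∑ i, M j i • r i).choose := by
    refine Polynomial.map_injective _ (MvPolynomial.map_injective _ hinj) ?_
    rw [Polynomial.map_map, ← hs, ← Polynomial.map_map, (exists_lift hinj hfix r).choose_spec.2,
      (exists_lift hinj hfix fun j => ∑ i, M j i • r i).choose_spec.2, gen, gen, Polynomial.map_prod]
    refine Finset.prod_congr rfl fun σ _ => ?_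
    rw [Polynomial.map_sub, Polynomial.map_X, Polynomial.map_C]
    congr 2
    simp only [s', map_sum, map_mul, MvPolynomial.eval₂Hom_C, MvPolynomial.eval₂Hom_X', Finset.mul_sum]
    rw [Finset.sum_comm]
    refine Finset.sum_congr rfl fun j _ => ?_
    rw [Finset.smul_sum, map_sum, Finset.sum_mul]
    refine Finset.sum_congr rfl fun i _ => ?_
    rw [smul_comm, Algebra.smul_def, map_mul]
    ring
  have he : (MvPolynomial.eval₂Hom (algebraMap R₀ A) w).comp s =
      MvPolynomial.eval₂Hom (algebraMap R₀ A) fun i => ∑ j, algebraMap R₀ A (M j i) * w j :=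
    MvPolynomial.ringHom_ext (fun c => by simp [s]) fun i => by simp [s, map_sum]
  rw [norm, norm, ← hP, Polynomial.map_map, he]

theorem norm_zero_coef {κ : Type u} [Fintype κ] (r : κ → R) (hr : ∀ j, r j = 0) (w : κ → A) :
    norm hinj hfix r w = X ^ Fintype.card G := by
  have hP : (exists_lift hinj hfix r).choose = X ^ Fintype.card G := by
    refine Polynomial.map_injective _ (MvPolynomial.map_injective _ hinj) ?_
    rw [(exists_lift hinj hfix r).choose_spec.2]
    simp [gen, hr, Finset.prod_const]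
  rw [norm, hP, Polynomial.map_pow, Polynomial.map_X]

theorem norm_one_coef (a : A) :
    norm hinj hfix (fun _ : PUnit.{u + 1} => (1 : R)) (fun _ => a) = (X - C a) ^ Fintype.card G := by
  have hP : (exists_lift hinj hfix fun _ : PUnit.{u + 1} => (1 : R)).choose =
      (X - C (MvPolynomial.X PUnit.unit)) ^ Fintype.card G := by
    refine Polynomial.map_injective _ (MvPolynomial.map_injective _ hinj) ?_
    rw [(exists_lift hinj hfix fun _ : PUnit.{u + 1} => (1 : R)).choose_spec.2]
    simp [gen, Finset.prod_const]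
  rw [norm, hP]
  simp

include hinj hfix in
theorem exists_poly (b : A ⊗[R₀] R)
    (hb : ∀ σ : G, Algebra.TensorProduct.map (AlgHom.id R₀ A) (MulSemiringAction.toAlgHom R₀ R σ) b = b) :
    ∃ P : A[X], P.Monic ∧ P.map (algebraMap A (A ⊗[R₀] R)) = (X - C b) ^ Fintype.card G := by
  classical
  obtain ⟨S, hS⟩ := TensorProduct.exists_finset b
  refine ⟨norm hinj hfix (fun i : S => i.1.2) (fun i : S => i.1.1), monic_norm hinj hfix _ _, ?_⟩
  rw [map_norm, ← Finset.card_univ, ← Finset.prod_const]
  refine Finset.prod_congr rfl fun σ _ => ?_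
  congr 2
  conv_rhs => rw [← hb σ, hS, map_sum, ← Finset.sum_coe_sort]
  rfl

include hinj hfix in
theorem pow_eq (a : A) (ha : a ⊗ₜ[R₀] (1 : R) = 0) :
    (X - C a) ^ Fintype.card G = (X : A[X]) ^ Fintype.card G := by
  classical
  let π : (R →₀ R₀) →ₗ[R₀] R := Finsupp.linearCombination R₀ id
  have hπ : Function.Surjective π := fun x => ⟨Finsupp.single x 1, by simp [π]⟩
  have hmem : a ⊗ₜ[R₀] Finsupp.single (1 : R) (1 : R₀) ∈ LinearMap.range ((LinearMap.ker π).subtype.lTensor A) := by
    have hex : Function.Exact (LinearMap.ker π).subtype π := LinearMap.exact_subtype_ker_map π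
    letI : AddCommGroup (LinearMap.ker π) := Submodule.addCommGroup _
    have hex' := lTensor_exact (R := R₀) (M := LinearMap.ker π) (N := R →₀ R₀) (P := R) A hex hπ
    refine (hex' _).1 ?_
    simpa [π] using ha
  obtain ⟨t, ht⟩ := hmem
  obtain ⟨S, rfl⟩ := TensorProduct.exists_finset t
  rw [map_sum] at ht
  let U : Finset R := insert 1 (S.biUnion fun x => (x.2 : R →₀ R₀).support)
  have hU : ∀ i : R, ∑ x ∈ S, algebraMap R₀ A ((x.2 : R →₀ R₀) i) * x.1 = if i = 1 then a else 0 := by
    intro i
    have h := congrArg (fun z => TensorProduct.finsuppScalarRight R₀ R₀ A R z i) ht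
    simp only [map_sum, Finsupp.coe_finset_sum, Finset.sum_apply, LinearMap.lTensor_tmul,
      TensorProduct.finsuppScalarRight_apply_tmul_apply, Submodule.coe_subtype, Algebra.smul_def] at h
    rw [h, Finsupp.single_apply]
    rcases eq_or_ne i 1 with rfl | hi
    · simp
    · simp [hi, hi.symm]
  have hz : ∀ x : S, (∑ i : U, (x.1.2 : R →₀ R₀) i.1 • (i.1 : R)) = 0 := by
    intro x
    have h0 : π (x.1.2 : R →₀ R₀) = 0 := x.1.2.2
    rw [Finsupp.linearCombination_apply, Finsupp.sum_of_support_subset _ (s := U)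
      (fun i hi => Finset.mem_insert_of_mem (Finset.mem_biUnion.2 ⟨x.1, x.2, hi⟩)) _ (by simp), ← Finset.sum_coe_sort] at h0
    simpa using h0
  have h1 : (1 : R) ∈ U := Finset.mem_insert_self _ _
  have e1 := norm_congr hinj hfix (fun i : U => (i.1 : R)) (fun (x : S) (i : U) => (x.1.2 : R →₀ R₀) i.1) (fun x : S => x.1.1)
  have e2 := norm_congr hinj hfix (fun i : U => (i.1 : R)) (fun (_ : PUnit.{u + 1}) (i : U) => if i.1 = 1 then 1 else 0) (fun _ => a)
  rw [norm_zero_coef hinj hfix _ hz] at e1
  have h3 : (fun _ : PUnit.{u + 1} => ∑ i : U, (if i.1 = 1 then (1 : R₀) else 0) • (i.1 : R)) = fun _ => 1 := by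
    funext _
    rw [Finset.sum_eq_single ⟨1, h1⟩ (fun i _ hi => by rw [if_neg fun h => hi (Subtype.ext h), zero_smul]) (by simp)]
    simp
  rw [h3, norm_one_coef hinj hfix] at e2
  rw [← e1, ← e2]
  congr 1
  funext i
  rw [Finset.sum_coe_sort S fun x => algebraMap R₀ A ((x.2 : R →₀ R₀) i.1) * x.1, hU]
  simp [apply_ite (algebraMap R₀ A)]

end H1GalNorm
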